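import Mathlib.RingTheory.Kaehler.TensorProduct
import Mathlib.RingTheory.Smooth.Basic
import Mathlib.RingTheory.Flat.Basic
import Mathlib.Algebra.TrivSqZeroExt.Basic
import Mathlib.Algebra.Polynomial.AlgebraMap
import Mathlib.LinearAlgebra.TensorProduct.RightExactness

/-!
Flat deformations of smooth algebras over `k[X]/(X^(n+1))`: differentials.
-/

universe u

open Polynomial TensorProduct

set_option maxHeartbeats 400000

namespace GrothLib.DefoTrunc26

variable {k : Type u} [Field k] {n : ℕ} {D : Type u} [CommRing D] [Algebra k D] {τ : D}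
  (e : (k[X] ⧸ Ideal.span {(X : k[X]) ^ (n + 1)}) ≃ₐ[k] D)
  (he : e (Ideal.Quotient.mk (Ideal.span {(X : k[X]) ^ (n + 1)}) X) = τ)

include he in
theorem e_mk (p : k[X]) : e (Ideal.Quotient.mk _ p) = aeval τ p := by
  have h : e.toAlgHom.comp (Ideal.Quotient.mkₐ k (Ideal.span {(X : k[X]) ^ (n + 1)})) = aeval τ := by
    refine Polynomial.algHom_ext ?_
    simpa using he
  exact AlgHom.congr_fun h p

include e he in
theorem exists_aeval (x : D) : ∃ p : k[X], aeval τ p = x := by
  obtain ⟨p, hp⟩ := Ideal.Quotient.mk_surjective (e.symm x)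
  exact ⟨p, by rw [← e_mk e he, hp, e.apply_symm_apply]⟩

include e he in
theorem tau_pow : τ ^ (n + 1) = 0 := by
  have h := e_mk e he (X ^ (n + 1))
  rw [Ideal.Quotient.eq_zero_iff_mem.mpr (Ideal.mem_span_singleton_self _), map_zero] at h
  simpa using h.symm

include e he in
theorem aeval_eq_zero_iff (p : k[X]) : aeval τ p = 0 ↔ (X : k[X]) ^ (n + 1) ∣ p := by
  rw [← e_mk e he, map_eq_zero_iff e e.injective, Ideal.Quotient.eq_zero_iff_mem, Ideal.mem_span_singleton]

include e he in
theorem exact_tau : Function.Exact (LinearMap.mulLeft D τ) (LinearMap.mulLeft D (τ ^ n)) := fun x => by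
  constructor
  · intro hx
    obtain ⟨p, rfl⟩ := exists_aeval e he x
    have h : (X : k[X]) ^ (n + 1) ∣ X ^ n * p := (aeval_eq_zero_iff e he _).mp (by simpa using hx)
    rw [pow_succ, mul_dvd_mul_iff_left (pow_ne_zero n X_ne_zero)] at h
    obtain ⟨q, rfl⟩ := h
    exact ⟨aeval τ q, by simp⟩
  · rintro ⟨y, rfl⟩
    simp [← mul_assoc, ← pow_succ, tau_pow e he]

variable {B : Type u} [CommRing B] [Algebra k B] [Algebra D B] [IsScalarTower k D B]
  {t : B} (ht : t = algebraMap D B τ)

include e he ht in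
theorem t_pow : t ^ (n + 1) = 0 := by rw [ht, ← map_pow, tau_pow e he, map_zero]

include e he ht in
theorem mem_span_of_mul_pow [Module.Flat D B] {x : B} (hx : x * t ^ n = 0) : x ∈ Ideal.span {t} := by
  have h := Module.Flat.lTensor_exact B (exact_tau e he)
  have h0 : (LinearMap.mulLeft D (τ ^ n)).lTensor B (x ⊗ₜ[D] (1 : D)) = 0 := by
    refine (TensorProduct.rid D B).injective ?_
    rw [LinearMap.lTensor_tmul, TensorProduct.rid_tmul, LinearMap.mulLeft_apply, mul_one, map_zero, Algebra.smul_def,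
      map_pow, ← ht, mul_comm, hx]
  obtain ⟨y, hy⟩ := (h _).mp h0
  refine Ideal.mem_span_singleton'.mpr ⟨TensorProduct.rid D B y, ?_⟩
  have hy' := congrArg (TensorProduct.rid D B) hy
  rw [TensorProduct.rid_tmul, one_smul] at hy'
  rw [← hy']
  clear hy hy'
  induction y using TensorProduct.induction_on with
  | zero => simp
  | add a b ha hb => simp only [map_add, add_mul, ha, hb]
  | tmul b d =>
    simp only [LinearMap.lTensor_tmul, TensorProduct.rid_tmul, LinearMap.mulLeft_apply, Algebra.smul_def,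
      map_mul, ← ht]
    ring

include e he ht in
theorem isNilpotent_span : IsNilpotent (Ideal.span {t}) :=
  ⟨n + 1, by rw [Ideal.span_singleton_pow, t_pow e he ht, Ideal.zero_eq_bot, Ideal.span_singleton_eq_bot]⟩

include e he ht in
/-- A smooth closed fibre lifts: sections of the reduction. -/
theorem exists_section [Algebra.FormallySmooth k (B ⧸ Ideal.span {t})] :
    ∃ s : (B ⧸ Ideal.span {t}) →ₐ[k] B, ∀ x, Ideal.Quotient.mk (Ideal.span {t}) (s x) = x := by
  obtain ⟨s, hs⟩ := Algebra.FormallySmooth.exists_lift (R := k) (A := B ⧸ Ideal.span {t})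
    (Ideal.span {t}) (isNilpotent_span e he ht) (AlgHom.id k _)
  exact ⟨s, fun x => AlgHom.congr_fun hs x⟩

section split

variable (s : (B ⧸ Ideal.span {t}) →ₐ[k] B) (hs : ∀ x, Ideal.Quotient.mk (Ideal.span {t}) (s x) = x)

include e he ht hs in
theorem exists_coeffs (x : B) :
    ∃ c : Fin (n + 1) → B ⧸ Ideal.span {t}, ∑ i : Fin (n + 1), t ^ (i : ℕ) * s (c i) = x := by
  have key : ∀ j : ℕ, j ≤ n + 1 → ∀ y, ∃ (c : ℕ → B ⧸ Ideal.span {t}) (z : B),
      ∑ i ∈ Finset.range j, t ^ i * s (c i) + t ^ j * z = y := by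
    intro j
    induction j with
    | zero => exact fun _ y => ⟨0, y, by simp⟩
    | succ j ih =>
      intro hj y
      obtain ⟨c, z, rfl⟩ := ih (Nat.le_of_succ_le hj) y
      obtain ⟨w, hw⟩ := Ideal.mem_span_singleton'.mp
        (Ideal.Quotient.eq.mp (hs (Ideal.Quotient.mk (Ideal.span {t}) z)).symm)
      refine ⟨Function.update c j (Ideal.Quotient.mk _ z), w, ?_⟩
      rw [Finset.sum_range_succ, Finset.sum_congr rfl (g := fun i => t ^ i * s (c i)) (fun i hi => by
        rw [Function.update_of_ne (Finset.mem_range.mp hi).ne])]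
      rw [Function.update_self, pow_succ, mul_assoc (t ^ j) t w, mul_comm t w, hw]
      ring
  obtain ⟨c, z, hz⟩ := key (n + 1) le_rfl x
  exact ⟨fun i => c i, by rw [Fin.sum_univ_eq_sum_range (fun i => t ^ i * s (c i)), ← hz, t_pow e he ht]; simp⟩

include e he ht hs in
theorem coeffs_eq_zero [Module.Flat D B] (c : Fin (n + 1) → B ⧸ Ideal.span {t})
    (hc : ∑ i : Fin (n + 1), t ^ (i : ℕ) * s (c i) = 0) : c = 0 := by
  funext i
  obtain ⟨j, hj⟩ := i
  induction j using Nat.strong_induction_on with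
  | _ j ih =>
    have h := congrArg (t ^ (n - j) * ·) hc
    simp only [Finset.mul_sum, mul_zero] at h
    rw [Finset.sum_eq_single ⟨j, hj⟩] at h
    · rw [← mul_assoc, ← pow_add, Nat.sub_add_cancel (Nat.lt_succ_iff.mp hj), mul_comm] at h
      have := Ideal.Quotient.eq_zero_iff_mem.mpr (mem_span_of_mul_pow e he ht h)
      rwa [hs] at this
    · rintro ⟨i, hi⟩ - hne
      rcases lt_or_gt_of_ne (fun h => hne (Fin.ext h) : i ≠ j) with hlt | hgt
      · rw [ih i hlt hi]; simp
      · rw [← mul_assoc, ← pow_add, show n - j + i = (n + 1) + (i - j - 1) by omega, pow_add, t_pow e he ht]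
        simp
    · simp

include e he ht hs in
theorem bijective_lift [Module.Flat D B] :
    Function.Bijective (Algebra.TensorProduct.lift (Algebra.ofId D B) s fun _ _ => Commute.all _ _ :
      D ⊗[k] (B ⧸ Ideal.span {t}) →ₐ[D] B) := by
  set φ := (Algebra.TensorProduct.lift (Algebra.ofId D B) s fun _ _ => Commute.all _ _ :
      D ⊗[k] (B ⧸ Ideal.span {t}) →ₐ[D] B)
  have hφ : ∀ c : Fin (n + 1) → B ⧸ Ideal.span {t},
      φ (∑ i : Fin (n + 1), (τ ^ (i : ℕ)) ⊗ₜ[k] c i) = ∑ i : Fin (n + 1), t ^ (i : ℕ) * s (c i) := fun c => by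
    simp [φ, ht, map_sum, Algebra.ofId_apply]
  have hrep : ∀ z : D ⊗[k] (B ⧸ Ideal.span {t}), ∃ c : Fin (n + 1) → B ⧸ Ideal.span {t},
      ∑ i : Fin (n + 1), (τ ^ (i : ℕ)) ⊗ₜ[k] c i = z := by
    intro z
    induction z using TensorProduct.induction_on with
    | zero => exact ⟨0, by simp⟩
    | add a b ha hb =>
      obtain ⟨c, rfl⟩ := ha
      obtain ⟨c', rfl⟩ := hb
      exact ⟨c + c', by simp [TensorProduct.tmul_add, Finset.sum_add_distrib]⟩
    | tmul d b =>
      obtain ⟨p, rfl⟩ := exists_aeval e he d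
      refine ⟨fun i => p.coeff i • b, ?_⟩
      simp only [TensorProduct.tmul_smul, TensorProduct.smul_tmul', ← TensorProduct.sum_tmul]
      rw [Fin.sum_univ_eq_sum_range (fun i => p.coeff i • τ ^ i), aeval_eq_sum_range]
      congr 1
      rcases le_total (n + 1) (p.natDegree + 1) with hle | hle
      · refine Finset.sum_subset (Finset.range_mono hle) fun i _ hi => ?_
        obtain ⟨l, rfl⟩ := Nat.exists_eq_add_of_le (Nat.not_lt.mp (Finset.mem_range.not.mp hi))
        rw [pow_add, tau_pow e he, zero_mul, smul_zero]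
      · refine (Finset.sum_subset (Finset.range_mono hle) fun i _ hi => ?_).symm
        rw [coeff_eq_zero_of_natDegree_lt (by simpa using hi), zero_smul]
  refine ⟨(injective_iff_map_eq_zero _).mpr fun z hz => ?_, fun x => ?_⟩
  · obtain ⟨c, rfl⟩ := hrep z
    rw [hφ] at hz
    simp [coeffs_eq_zero e he ht s hs c hz]
  · obtain ⟨c, hc⟩ := exists_coeffs e he ht s hs x
    exact ⟨_, (hφ c).trans hc⟩

include e he ht in
theorem projective_kaehler [Module.Flat D B] [Algebra.FormallySmooth k (B ⧸ Ideal.span {t})] :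
    Module.Projective B (Ω[B⁄D]) := by
  obtain ⟨s, hs⟩ := exists_section e he ht
  letI : Algebra (B ⧸ Ideal.span {t}) B := s.toRingHom.toAlgebra
  haveI : IsScalarTower k (B ⧸ Ideal.span {t}) B := .of_algebraMap_eq fun r => (s.commutes r).symm
  haveI : Algebra.IsPushout k D (B ⧸ Ideal.span {t}) B :=
    ⟨IsBaseChange.of_equiv
      (LinearEquiv.ofBijective
        (Algebra.TensorProduct.lift (Algebra.ofId D B) s fun _ _ => Commute.all _ _ :
          D ⊗[k] (B ⧸ Ideal.span {t}) →ₐ[D] B).toLinearMap (bijective_lift e he ht s hs))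
      fun x => by simp; rfl⟩
  exact Module.Projective.of_equiv (KaehlerDifferential.tensorKaehlerEquiv k D (B ⧸ Ideal.span {t}) B)

end split

end GrothLib.DefoTrunc26
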