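import Groth.Agent.Lib.DefoTrunc26.Basic

/-!
Flat deformations of smooth algebras over `k[X]/(X^(n+1))`: the absolute differentials.
-/

universe u

open Polynomial TensorProduct

set_option maxHeartbeats 400000

namespace GrothLib.DefoTrunc26

variable {k : Type u} [Field k] {n : ℕ} {D : Type u} [CommRing D] [Algebra k D] {τ : D}
  (e : (k[X] ⧸ Ideal.span {(X : k[X]) ^ (n + 1)}) ≃ₐ[k] D)
  (he : e (Ideal.Quotient.mk (Ideal.span {(X : k[X]) ^ (n + 1)}) X) = τ)
  {B : Type u} [CommRing B] [Algebra k B] [Algebra D B] [IsScalarTower k D B]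
  {t : B} (ht : t = algebraMap D B τ)

include e he ht in
/-- The derivative in the deformation parameter, modulo `tⁿ`. -/
theorem exists_deriv [CharZero k] [Module.Flat D B] [Algebra.FormallySmooth k (B ⧸ Ideal.span {t})] :
    ∃ δ : Derivation k B (B ⧸ Ideal.span {t ^ n}), δ t = 1 := by
  obtain ⟨s, hs⟩ := exists_section e he ht
  let m := Ideal.Quotient.mk (Ideal.span {t ^ n})
  let v : TrivSqZeroExt (B ⧸ Ideal.span {t ^ n}) (B ⧸ Ideal.span {t ^ n}) := TrivSqZeroExt.inl (m t) + TrivSqZeroExt.inr 1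
  have hvf : v.fst = m t := by simp [v]
  have hvs : v.snd = 1 := by simp [v]
  have htn : m t ^ n = 0 := by
    rw [← map_pow]; exact Ideal.Quotient.eq_zero_iff_mem.mpr (Ideal.mem_span_singleton_self _)
  have hv : v ^ (n + 1) = 0 := TrivSqZeroExt.ext
    (by rw [TrivSqZeroExt.fst_pow, hvf, pow_succ, htn, zero_mul, TrivSqZeroExt.fst_zero])
    (by rw [TrivSqZeroExt.snd_pow, hvf, hvs, TrivSqZeroExt.snd_zero, Nat.pred_succ, htn]; simp)
  let θ : D →ₐ[k] TrivSqZeroExt (B ⧸ Ideal.span {t ^ n}) (B ⧸ Ideal.span {t ^ n}) := (Ideal.Quotient.liftₐ (Ideal.span {(X : k[X]) ^ (n + 1)}) (aeval v) fun p hp => by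
    obtain ⟨q, rfl⟩ := Ideal.mem_span_singleton'.mp hp
    simp [hv]).comp e.symm.toAlgHom
  have hθ : θ τ = v := by
    simp only [θ, AlgHom.comp_apply, AlgEquiv.coe_toAlgHom, ← he, e.symm_apply_apply]
    exact aeval_X v
  let ι : (B ⧸ Ideal.span {t}) →ₐ[k] TrivSqZeroExt (B ⧸ Ideal.span {t ^ n}) (B ⧸ Ideal.span {t ^ n}) :=
    ((TrivSqZeroExt.inlAlgHom k (B ⧸ Ideal.span {t ^ n}) (B ⧸ Ideal.span {t ^ n})).comp
      (Ideal.Quotient.mkₐ k (Ideal.span {t ^ n}))).comp s
  let ψ₀ : D ⊗[k] (B ⧸ Ideal.span {t}) →ₐ[k] TrivSqZeroExt (B ⧸ Ideal.span {t ^ n}) (B ⧸ Ideal.span {t ^ n}) := Algebra.TensorProduct.lift θ ι fun _ _ => Commute.all _ _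
  let φ : D ⊗[k] (B ⧸ Ideal.span {t}) ≃ₐ[D] B := AlgEquiv.ofBijective _ (bijective_lift e he ht s hs)
  let ψ : B →ₐ[k] TrivSqZeroExt (B ⧸ Ideal.span {t ^ n}) (B ⧸ Ideal.span {t ^ n}) := ψ₀.comp (φ.restrictScalars k).symm.toAlgHom
  have hfst : ∀ x, (ψ x).fst = m x := by
    have : (TrivSqZeroExt.fstHom k (B ⧸ Ideal.span {t ^ n}) (B ⧸ Ideal.span {t ^ n})).comp ψ₀ =
        (Ideal.Quotient.mkₐ k (Ideal.span {t ^ n})).comp (φ.restrictScalars k).toAlgHom := by
      refine Algebra.TensorProduct.ext ?_ ?_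
      · refine AlgHom.ext fun d => ?_
        obtain ⟨p, rfl⟩ := exists_aeval e he d
        show ((ψ₀ (aeval τ p ⊗ₜ 1))).fst = m (φ (aeval τ p ⊗ₜ 1))
        have : φ (aeval τ p ⊗ₜ 1) = algebraMap D B (aeval τ p) := by
          simp [φ, Algebra.ofId_apply]
        rw [this]
        simp only [ψ₀, Algebra.TensorProduct.lift_tmul, map_one, mul_one]
        clear this
        induction p using Polynomial.induction_on' with
        | add p q hp hq =>
          simp only [map_add, TrivSqZeroExt.fst_add]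
          exact congrArg₂ (· + ·) hp hq
        | monomial i c =>
          simp only [aeval_monomial, map_mul, map_pow, hθ, AlgHom.commutes, TrivSqZeroExt.fst_mul,
            TrivSqZeroExt.fst_pow, hvf, ← ht, ← IsScalarTower.algebraMap_apply k D B]
          rfl
      · refine AlgHom.ext fun b => ?_
        show ((ψ₀ (1 ⊗ₜ b))).fst = m (φ (1 ⊗ₜ b))
        simp [ψ₀, φ, ι]
        rfl
    intro x
    have h := AlgHom.congr_fun this ((φ.restrictScalars k).symm x)
    simpa [ψ, m] using h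
  let δ : Derivation k B (B ⧸ Ideal.span {t ^ n}) := Derivation.mk'
    (((TrivSqZeroExt.sndHom (B ⧸ Ideal.span {t ^ n}) (B ⧸ Ideal.span {t ^ n})).restrictScalars k).comp ψ.toLinearMap)
    (fun a b => by
      show (ψ (a * b)).snd = a • (ψ b).snd + b • (ψ a).snd
      rw [map_mul, TrivSqZeroExt.snd_mul, hfst, hfst]
      simp [Algebra.smul_def, m, mul_comm])
  refine ⟨δ, ?_⟩
  have h1 : (φ.restrictScalars k).symm t = τ ⊗ₜ 1 := by
    rw [AlgEquiv.symm_apply_eq]
    simp [φ, ht, Algebra.ofId_apply]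
  show (ψ₀ ((φ.restrictScalars k).symm t)).snd = 1
  rw [h1]
  simp [ψ₀, hθ, hvs]

include e he in
/-- Differentials of constants from the base are multiples of `dt`. -/
theorem D_algebraMap_mem {C : Type u} [CommRing C] [Algebra k C] [Algebra D C] [IsScalarTower k D C] (x : D) :
    KaehlerDifferential.D k C (algebraMap D C x) ∈
      Submodule.span C {KaehlerDifferential.D k C (algebraMap D C τ)} := by
  obtain ⟨p, rfl⟩ := exists_aeval e he x
  rw [← aeval_algebraMap_apply, Derivation.map_aeval]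
  exact Submodule.smul_mem _ _ (Submodule.mem_span_singleton_self _)

include e he in
theorem exists_smul_of_map_eq_zero {C : Type u} [CommRing C] [Algebra k C] [Algebra D C] [IsScalarTower k D C]
    {η : Ω[C⁄k]} (h : KaehlerDifferential.map k D C C η = 0) :
    ∃ c : C, c • KaehlerDifferential.D k C (algebraMap D C τ) = η := by
  obtain ⟨w, rfl⟩ := (KaehlerDifferential.exact_mapBaseChange_map k D C η).mp h
  refine Submodule.mem_span_singleton.mp ?_
  induction w using TensorProduct.induction_on with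
  | zero => simp
  | add a b ha hb =>
    rw [map_add]
    exact add_mem (ha ((KaehlerDifferential.exact_mapBaseChange_map k D C _).mpr ⟨a, rfl⟩))
      (hb ((KaehlerDifferential.exact_mapBaseChange_map k D C _).mpr ⟨b, rfl⟩))
  | tmul c ω =>
    rw [KaehlerDifferential.mapBaseChange_tmul]
    refine Submodule.smul_mem _ _ ?_
    have hω : ω ∈ Submodule.span D (Set.range (KaehlerDifferential.D k D)) := by
      rw [KaehlerDifferential.span_range_derivation]; trivial
    clear h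
    induction hω using Submodule.span_induction with
    | mem y hy =>
      obtain ⟨x, rfl⟩ := hy
      rw [KaehlerDifferential.map_D]
      exact D_algebraMap_mem e he x
    | zero => simp
    | add a b _ _ ha hb => rw [map_add]; exact add_mem ha hb
    | smul d a _ ha =>
      rw [map_smul, algebra_compatible_smul C d]
      exact Submodule.smul_mem _ _ ha

include ht in
theorem map_D_t : KaehlerDifferential.map k D B B (KaehlerDifferential.D k B t) = 0 := by
  rw [KaehlerDifferential.map_D, Algebra.algebraMap_self, RingHom.id_apply, ht, Derivation.map_algebraMap]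

theorem one_tmul_dt_smul (c : B) : (1 : B ⧸ Ideal.span {t ^ n}) ⊗ₜ[B] (c • KaehlerDifferential.D k B t) =
    Ideal.Quotient.mk (Ideal.span {t ^ n}) c • ((1 : B ⧸ Ideal.span {t ^ n}) ⊗ₜ[B] KaehlerDifferential.D k B t) := by
  rw [TensorProduct.smul_tmul', TensorProduct.tmul_smul, TensorProduct.smul_tmul', smul_eq_mul, mul_one,
    Algebra.smul_def, mul_one]
  rfl

theorem tmul_D_pow_mul (g : B) :
    (1 : B ⧸ Ideal.span {t ^ n}) ⊗ₜ[B] KaehlerDifferential.D k B (t ^ n * g) =
      (1 : B ⧸ Ideal.span {t ^ n}) ⊗ₜ[B] ((g * n * t ^ (n - 1)) • KaehlerDifferential.D k B t) := by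
  have h0 : algebraMap B (B ⧸ Ideal.span {t ^ n}) (t ^ n) = 0 :=
    Ideal.Quotient.eq_zero_iff_mem.mpr (Ideal.mem_span_singleton_self _)
  rw [Derivation.leibniz, TensorProduct.tmul_add, TensorProduct.tmul_smul, TensorProduct.smul_tmul',
    Algebra.smul_def, h0, zero_mul, TensorProduct.zero_tmul, zero_add, Derivation.leibniz_pow]
  rw [← Nat.cast_smul_eq_nsmul B, smul_smul, smul_smul]

variable (δ : Derivation k B (B ⧸ Ideal.span {t ^ n})) (hδ : δ t = 1)

/-- The retraction of the line spanned by `dt`. -/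
noncomputable def ret : (B ⧸ Ideal.span {t ^ n}) ⊗[B] Ω[B⁄k] →ₗ[B ⧸ Ideal.span {t ^ n}] B ⧸ Ideal.span {t ^ n} :=
  δ.liftKaehlerDifferential.liftBaseChange _

include hδ in
theorem ret_dt : ret δ ((1 : B ⧸ Ideal.span {t ^ n}) ⊗ₜ KaehlerDifferential.D k B t) = 1 := by
  rw [ret, LinearMap.liftBaseChange_tmul, Derivation.liftKaehlerDifferential_comp_D, hδ, one_smul]

include hδ in
theorem injective_dt : Function.Injective
    (LinearMap.toSpanSingleton (B ⧸ Ideal.span {t ^ n}) ((B ⧸ Ideal.span {t ^ n}) ⊗[B] Ω[B⁄k])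
      ((1 : (B ⧸ Ideal.span {t ^ n})) ⊗ₜ[B] KaehlerDifferential.D k B t)) := fun a b h => by
  have h' := congrArg (ret δ) h
  rwa [LinearMap.toSpanSingleton_apply, LinearMap.toSpanSingleton_apply, map_smul, map_smul, ret_dt δ hδ,
    smul_eq_mul, smul_eq_mul, mul_one, mul_one] at h'

include e he ht in
theorem exact_dt : Function.Exact
    (LinearMap.toSpanSingleton (B ⧸ Ideal.span {t ^ n}) ((B ⧸ Ideal.span {t ^ n}) ⊗[B] Ω[B⁄k])
      ((1 : (B ⧸ Ideal.span {t ^ n})) ⊗ₜ[B] KaehlerDifferential.D k B t))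
    (LinearMap.baseChange (B ⧸ Ideal.span {t ^ n}) (KaehlerDifferential.map k D B B)) := by
  have hex : Function.Exact (LinearMap.toSpanSingleton B Ω[B⁄k] (KaehlerDifferential.D k B t))
      (KaehlerDifferential.map k D B B) := fun η => by
    refine ⟨fun h => ?_, ?_⟩
    · obtain ⟨c, hc⟩ := exists_smul_of_map_eq_zero e he h
      exact ⟨c, by rw [LinearMap.toSpanSingleton_apply, ht, hc]⟩
    · rintro ⟨c, rfl⟩
      rw [LinearMap.toSpanSingleton_apply, map_smul, map_D_t ht, smul_zero]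
  have h := lTensor_exact (B ⧸ Ideal.span {t ^ n}) hex (KaehlerDifferential.map_surjective k D B)
  intro z
  refine (h z).trans ⟨?_, ?_⟩
  · rintro ⟨w, rfl⟩
    refine ⟨TensorProduct.rid B (B ⧸ Ideal.span {t ^ n}) w, ?_⟩
    induction w using TensorProduct.induction_on with
    | zero => simp
    | add a b ha hb => simp only [map_add, ha, hb]
    | tmul c b =>
      rw [TensorProduct.rid_tmul, LinearMap.lTensor_tmul, LinearMap.toSpanSingleton_apply,
        LinearMap.toSpanSingleton_apply, TensorProduct.smul_tmul', TensorProduct.tmul_smul,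
        TensorProduct.smul_tmul', smul_eq_mul, mul_one]
  · rintro ⟨c, rfl⟩
    exact ⟨c ⊗ₜ 1, by simp [TensorProduct.smul_tmul']⟩

include e he ht hδ in
theorem projective_reduction [Module.Projective B Ω[B⁄D]] :
    Module.Projective (B ⧸ Ideal.span {t ^ n}) ((B ⧸ Ideal.span {t ^ n}) ⊗[B] Ω[B⁄k]) := by
  let M := (B ⧸ Ideal.span {t ^ n}) ⊗[B] Ω[B⁄k]
  let π := LinearMap.baseChange (B ⧸ Ideal.span {t ^ n}) (KaehlerDifferential.map k D B B)
  have hπ : Function.Surjective π :=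
    LinearMap.lTensor_surjective (B ⧸ Ideal.span {t ^ n}) (KaehlerDifferential.map_surjective k D B)
  let Φ := (ret δ).prod π
  have hΦ : Function.Bijective Φ := by
    refine ⟨(injective_iff_map_eq_zero _).mpr fun x hx => ?_, fun ⟨a, y⟩ => ?_⟩
    · have h1 : ret δ x = 0 := congrArg Prod.fst hx
      obtain ⟨c, rfl⟩ := (exact_dt e he ht x).mp (congrArg Prod.snd hx)
      rw [LinearMap.toSpanSingleton_apply, map_smul, ret_dt δ hδ, smul_eq_mul, mul_one] at h1
      rw [h1, map_zero]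
    · obtain ⟨x, rfl⟩ := hπ y
      refine ⟨x + (a - ret δ x) • ((1 : B ⧸ Ideal.span {t ^ n}) ⊗ₜ KaehlerDifferential.D k B t), Prod.ext ?_ ?_⟩
      · show ret δ _ = a
        rw [map_add, map_smul, ret_dt δ hδ, smul_eq_mul, mul_one, add_sub_cancel]
      · show π _ = π x
        rw [map_add, map_smul]
        show π x + (a - ret δ x) • ((1 : B ⧸ Ideal.span {t ^ n}) ⊗ₜ[B] KaehlerDifferential.map k D B B _) = π x
        rw [map_D_t ht, TensorProduct.tmul_zero, smul_zero, add_zero]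
  exact Module.Projective.of_equiv (LinearEquiv.ofBijective Φ hΦ).symm

include e he ht hδ in
theorem injective_pair [CharZero k] [Module.Flat D B] (hn : 1 ≤ n) : Function.Injective (fun f : B =>
      ((Ideal.Quotient.mk (Ideal.span {t ^ n}) f,
        (1 : (B ⧸ Ideal.span {t ^ n})) ⊗ₜ[B] KaehlerDifferential.D k B f) :
        (B ⧸ Ideal.span {t ^ n}) × ((B ⧸ Ideal.span {t ^ n}) ⊗[B] Ω[B⁄k]))) := by
  intro f f' h
  simp only [Prod.mk.injEq] at h
  obtain ⟨g, hg⟩ := Ideal.mem_span_singleton'.mp (Ideal.Quotient.eq.mp h.1)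
  have h2 : (1 : B ⧸ Ideal.span {t ^ n}) ⊗ₜ[B] KaehlerDifferential.D k B (t ^ n * g) = 0 := by
    rw [mul_comm, hg, map_sub, TensorProduct.tmul_sub, h.2, sub_self]
  rw [tmul_D_pow_mul, one_tmul_dt_smul] at h2
  have h3 := congrArg (ret δ) h2
  rw [map_smul, ret_dt δ hδ, map_zero, smul_eq_mul, mul_one] at h3
  obtain ⟨r, hr⟩ := Ideal.mem_span_singleton'.mp (Ideal.Quotient.eq_zero_iff_mem.mp h3)
  have hu : IsUnit (n : B) := by
    rw [← map_natCast (algebraMap k B) n]
    exact (Nat.cast_ne_zero.mpr (by omega) : (n : k) ≠ 0).isUnit.map _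
  have h4 : (g * n) * t ^ n = 0 := by
    obtain ⟨m, rfl⟩ : ∃ m, n = m + 1 := ⟨n - 1, by omega⟩
    simp only [Nat.add_sub_cancel] at hr
    calc g * ((m + 1 : ℕ) : B) * t ^ (m + 1) = (g * ((m + 1 : ℕ) : B) * t ^ m) * t := by rw [pow_succ]; ring
      _ = r * t ^ (m + 1 + 1) := by rw [← hr, pow_succ t (m + 1)]; ring
      _ = 0 := by rw [t_pow e he ht, mul_zero]
  have h5 : g * t ^ n = 0 := by
    rw [← hu.mul_right_eq_zero]
    rw [← mul_assoc, mul_comm (n : B) g]
    exact h4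
  rw [← sub_eq_zero, ← hg, h5]

theorem exists_of_mapBaseChange_eq_zero {ω : (B ⧸ Ideal.span {t ^ n}) ⊗[B] Ω[B⁄k]}
    (h : KaehlerDifferential.mapBaseChange k B (B ⧸ Ideal.span {t ^ n}) ω = 0) :
    ∃ g : B, (1 : B ⧸ Ideal.span {t ^ n}) ⊗ₜ[B] KaehlerDifferential.D k B (t ^ n * g) = ω := by
  obtain ⟨c, rfl⟩ := (KaehlerDifferential.exact_kerCotangentToTensor_mapBaseChange k B (B ⧸ Ideal.span {t ^ n})
    Ideal.Quotient.mk_surjective ω).mp h
  obtain ⟨⟨x, hx⟩, rfl⟩ := Ideal.toCotangent_surjective _ c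
  obtain ⟨g, hg⟩ := Ideal.mem_span_singleton'.mp
    (show x ∈ Ideal.span {t ^ n} from Ideal.Quotient.eq_zero_iff_mem.mp hx)
  refine ⟨g, ?_⟩
  rw [KaehlerDifferential.kerCotangentToTensor_toCotangent, mul_comm, hg]

theorem range_pair : Set.range (fun f : B =>
      ((Ideal.Quotient.mk (Ideal.span {t ^ n}) f,
        (1 : (B ⧸ Ideal.span {t ^ n})) ⊗ₜ[B] KaehlerDifferential.D k B f) :
        (B ⧸ Ideal.span {t ^ n}) × ((B ⧸ Ideal.span {t ^ n}) ⊗[B] Ω[B⁄k]))) =
      {p | KaehlerDifferential.D k (B ⧸ Ideal.span {t ^ n}) p.1 =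
        KaehlerDifferential.mapBaseChange k B (B ⧸ Ideal.span {t ^ n}) p.2} := by
  refine Set.Subset.antisymm ?_ fun ⟨a, ω⟩ hp => ?_
  · rintro _ ⟨f, rfl⟩
    simp [KaehlerDifferential.mapBaseChange_tmul]
  · obtain ⟨f₀, rfl⟩ := Ideal.Quotient.mk_surjective a
    obtain ⟨g, hg⟩ := exists_of_mapBaseChange_eq_zero
      (ω := ω - (1 : B ⧸ Ideal.span {t ^ n}) ⊗ₜ[B] KaehlerDifferential.D k B f₀) (by
        rw [map_sub, KaehlerDifferential.mapBaseChange_tmul, one_smul, KaehlerDifferential.map_D]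
        exact sub_eq_zero.mpr hp.symm)
    refine ⟨f₀ + t ^ n * g, Prod.ext ?_ ?_⟩
    · show Ideal.Quotient.mk _ (f₀ + t ^ n * g) = Ideal.Quotient.mk _ f₀
      rw [map_add, Ideal.Quotient.eq_zero_iff_mem.mpr (Ideal.mul_mem_right _ _ (Ideal.mem_span_singleton_self _)),
        add_zero]
    · show (1 : B ⧸ Ideal.span {t ^ n}) ⊗ₜ[B] KaehlerDifferential.D k B (f₀ + t ^ n * g) = ω
      rw [map_add, TensorProduct.tmul_add, hg, add_sub_cancel]

include e he ht in
theorem pow_smul_dt [CharZero k] : (t ^ n) • KaehlerDifferential.D k B t = 0 := by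
  have h : KaehlerDifferential.D k B (t ^ (n + 1)) = 0 := by rw [t_pow e he ht, map_zero]
  rw [Derivation.leibniz_pow, Nat.add_sub_cancel, ← Nat.cast_smul_eq_nsmul k] at h
  exact (smul_eq_zero.mp h).resolve_left (Nat.cast_ne_zero.mpr (Nat.succ_ne_zero n))

include e he ht hδ in
theorem injective_kaehler_pair [CharZero k] : Function.Injective (fun η : Ω[B⁄k] =>
      ((KaehlerDifferential.map k D B B η, (1 : (B ⧸ Ideal.span {t ^ n})) ⊗ₜ[B] η) :
        Ω[B⁄D] × ((B ⧸ Ideal.span {t ^ n}) ⊗[B] Ω[B⁄k]))) := by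
  intro η η' h
  simp only [Prod.mk.injEq] at h
  obtain ⟨c, hc⟩ := exists_smul_of_map_eq_zero e he (η := η - η') (by rw [map_sub, h.1, sub_self])
  rw [← ht] at hc
  have h2 : (1 : B ⧸ Ideal.span {t ^ n}) ⊗ₜ[B] (η - η') = 0 := by rw [TensorProduct.tmul_sub, h.2, sub_self]
  rw [← hc, one_tmul_dt_smul] at h2
  have h3 := congrArg (ret δ) h2
  rw [map_smul, ret_dt δ hδ, map_zero, smul_eq_mul, mul_one] at h3
  obtain ⟨r, rfl⟩ := Ideal.mem_span_singleton'.mp (Ideal.Quotient.eq_zero_iff_mem.mp h3)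
  rw [mul_smul, pow_smul_dt e he ht, smul_zero] at hc
  exact sub_eq_zero.mp hc.symm

theorem map_map_eq (η : Ω[B⁄k]) :
    KaehlerDifferential.map D D B (B ⧸ Ideal.span {t ^ n}) (KaehlerDifferential.map k D B B η) =
      KaehlerDifferential.map k D (B ⧸ Ideal.span {t ^ n}) (B ⧸ Ideal.span {t ^ n})
        (KaehlerDifferential.mapBaseChange k B (B ⧸ Ideal.span {t ^ n}) (1 ⊗ₜ η)) := by
  have hη : η ∈ Submodule.span B (Set.range (KaehlerDifferential.D k B)) := by
    rw [KaehlerDifferential.span_range_derivation]; trivial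
  induction hη using Submodule.span_induction with
  | mem y hy =>
    obtain ⟨x, rfl⟩ := hy
    simp [KaehlerDifferential.mapBaseChange_tmul]
  | zero => simp
  | add a b _ _ ha hb => simp only [map_add, TensorProduct.tmul_add, ha, hb]
  | smul c a _ ha =>
    simp only [KaehlerDifferential.mapBaseChange_tmul, one_smul] at ha ⊢
    rw [map_smul, map_smul, map_smul, ha, algebra_compatible_smul (B ⧸ Ideal.span {t ^ n}) c,
      algebra_compatible_smul (B ⧸ Ideal.span {t ^ n}) c, map_smul]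

include e he ht in
theorem range_kaehler_pair : Set.range (fun η : Ω[B⁄k] =>
      ((KaehlerDifferential.map k D B B η, (1 : (B ⧸ Ideal.span {t ^ n})) ⊗ₜ[B] η) :
        Ω[B⁄D] × ((B ⧸ Ideal.span {t ^ n}) ⊗[B] Ω[B⁄k]))) =
      {p | KaehlerDifferential.map D D B (B ⧸ Ideal.span {t ^ n}) p.1 =
        KaehlerDifferential.map k D (B ⧸ Ideal.span {t ^ n}) (B ⧸ Ideal.span {t ^ n})
          (KaehlerDifferential.mapBaseChange k B (B ⧸ Ideal.span {t ^ n}) p.2)} := by
  refine Set.Subset.antisymm ?_ fun ⟨a, ω⟩ hp => ?_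
  · rintro _ ⟨η, rfl⟩
    exact map_map_eq η
  · obtain ⟨η₀, rfl⟩ := KaehlerDifferential.map_surjective k D B a
    let ω' := ω - (1 : B ⧸ Ideal.span {t ^ n}) ⊗ₜ[B] η₀
    have h0 : KaehlerDifferential.map k D (B ⧸ Ideal.span {t ^ n}) (B ⧸ Ideal.span {t ^ n})
        (KaehlerDifferential.mapBaseChange k B (B ⧸ Ideal.span {t ^ n}) ω') = 0 := by
      rw [map_sub, map_sub, ← map_map_eq]
      exact sub_eq_zero.mpr hp.symm
    obtain ⟨b, hb⟩ := exists_smul_of_map_eq_zero e he h0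
    obtain ⟨b, rfl⟩ := Ideal.Quotient.mk_surjective b
    obtain ⟨g, hg⟩ := exists_of_mapBaseChange_eq_zero (t := t) (n := n)
      (ω := ω' - (1 : B ⧸ Ideal.span {t ^ n}) ⊗ₜ[B] (b • KaehlerDifferential.D k B t)) (by
        rw [map_sub, ← hb, KaehlerDifferential.mapBaseChange_tmul, one_smul, map_smul, KaehlerDifferential.map_D,
          IsScalarTower.algebraMap_apply D B (B ⧸ Ideal.span {t ^ n}), ← ht, sub_eq_zero,
          algebra_compatible_smul (B ⧸ Ideal.span {t ^ n}) b]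
        rfl)
    rw [tmul_D_pow_mul, eq_sub_iff_add_eq, ← TensorProduct.tmul_add, ← add_smul, eq_sub_iff_add_eq,
      ← TensorProduct.tmul_add] at hg
    refine ⟨(g * n * t ^ (n - 1) + b) • KaehlerDifferential.D k B t + η₀, Prod.ext ?_ hg⟩
    show KaehlerDifferential.map k D B B _ = _
    rw [map_add, map_smul, map_D_t ht, smul_zero, zero_add]

end GrothLib.DefoTrunc26
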